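import Cfsg.Agent.H800.TF8.E1F
import Cfsg.Agent.H84.TF8.Torus

/-!
# (E1), (E2) in the form of helper315's `key_abs` (helper800, S2452, `²F₄(8)`)
-/

set_option autoImplicit false
set_option linter.unusedSectionVars false

open scoped ComplexConjugate
open Cfsg

namespace Cfsg.Agent.H800.TF8

open Cfsg.Agent.OddOrderCharacters.Clifford Cfsg.Agent.Characters Cfsg.Agent.H45.GG
open Cfsg.Agent.OddOrderCharacters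
open Cfsg.Agent.SplitTwo Cfsg.Agent.SplitTwo.ZS Cfsg.Agent.KFacts.TwF4 Cfsg.Agent.KFacts.TwF4.Arc Cfsg.Agent.H84.GaussTwF4
open Cfsg.Agent.H84.TF8 Cfsg.Agent.TitsThree.RankTwoZ

universe u

variable {F : Type*} [Field F] [Finite F] {σ : F →+* F} {G : Type u} [Group G] [Fintype G] (S : Full σ G)

/-- **(E2)** for `Bo S ≤ Pa S` -/
theorem glue_e2 [Fintype (Bo S)] [Fintype (Pa S)] (hn : S.n2 ∉ Bo S) {x y : G} (hyP : y ∈ Pa S)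
    (hyB : ∀ g : G, g⁻¹ * y * g ∉ Bo S) (hxP : ∀ g : G, g⁻¹ * x * g ∉ Pa S) :
    ∀ μ : ↥(Bo S) →* ℂˣ, (∀ (u : G) (hu : u ∈ J S.XZ 1 8), μ ⟨u, U_le_Bo hu⟩ = 1) → μ ≠ 1 → ∀ ρ : ↥(Pa S) → ℂ,
      IsIrrCharacter ↥(Pa S) ρ → classInner (fun b : ↥(Bo S) => ρ ⟨b, Bo_le_Pa b.2⟩) (lc μ) ≠ 0 → ρ ⟨y, hyP⟩ ≠ 0 →
      ∀ χ : G → ℂ, IsIrrCharacter G χ → classInner (fun h : ↥(Pa S) => χ h) ρ ≠ 0 → χ x = 0 := by
  intro μ hU hμ1 ρ hρ hρμ hρy χ hχ hχρ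
  have hPB : ∀ g ∈ Pa S, g ∈ Bo S ∨ DK (Bo S) (Bo S) S.n2 g := fun g hg => BPB hg
  by_cases hTS : ∀ s (hs : s ∈ TS S), μ ⟨s, TS_le_Bo hs⟩ = 1
  · have hG : ∀ g ∉ Pa S, ∃ w, DK (Bo S) (Bo S) w g ∧ ∃ (s : G) (hs : s ∈ Bo S) (hs' : w⁻¹ * s * w ∈ Bo S),
        μ ⟨w⁻¹ * s * w, hs'⟩ ≠ μ ⟨s, hs⟩ := by
      intro g hg
      obtain ⟨b, hb, b', hb', w, e, s, hs, hs', hne⟩ := e2_key μ hU hTS hμ1 hg
      have h1 : w⁻¹ * (w * s * w⁻¹) * w = s := by group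
      refine ⟨w, ⟨b, hb, b', hb', e⟩, w * s * w⁻¹, hs', by rw [h1]; exact hs, ?_⟩
      have h2 : (⟨w⁻¹ * (w * s * w⁻¹) * w, by rw [h1]; exact hs⟩ : ↥(Bo S)) = ⟨s, hs⟩ := Subtype.ext h1
      rw [h2]
      exact Ne.symm hne
    have hirr := e2 (hBP := Bo_le_Pa) (μ := μ) n2_mem_Pa hn hPB hG hρ hρμ
    exact zero_of_irr hρ hirr hχ hχρ hxP
  · exfalso
    obtain ⟨s, hs, hs', hne⟩ := f2_key μ hTS
    have h1 : S.n2⁻¹ * (S.n2 * s * S.n2⁻¹) * S.n2 = s := by group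
    have h2 : (⟨S.n2⁻¹ * (S.n2 * s * S.n2⁻¹) * S.n2, by rw [h1]; exact hs⟩ : ↥(Bo S)) = ⟨s, hs⟩ := Subtype.ext h1
    exact hρy (f2_zero (hBP := Bo_le_Pa) (μ := μ) n2_mem_Pa hn hPB
      ⟨S.n2 * s * S.n2⁻¹, hs', by rw [h1]; exact hs, by rw [h2]; exact Ne.symm hne⟩ hρ hρμ hyB)

omit [Finite F] in
/-- **(E1)** in the form of `key_abs` -/
theorem glue_e1 {B P U UP V1 LS Z : Subgroup G} {n : G} [Fintype P] [Fintype U] (Fr : Fr P U UP V1 LS Z n)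
    (hBP : B ≤ P) (hUB : U ≤ B) (hUPU : UP ≤ U) (hexp : ∀ p ∈ P, p ^ 1820 ∈ UP)
    (hcU : Nat.card UP = 2 ^ 30) (h19 : 19 ∣ P.index) (hcP : ¬ 19 ∣ Nat.card P) (hcop : Nat.Coprime 5461 (Nat.card G))
    (hG : ¬ 19 ^ 2 ∣ Nat.card G) {x : G} (hx : orderOf x = 19) :
    ∀ ρ : P → ℂ, IsIrrCharacter P ρ → (∀ (u : G) (hu : u ∈ UP), ρ ⟨u, hBP (hUB (hUPU hu))⟩ = ρ 1) →
      ∑ u : U, ρ ⟨u, hBP (hUB u.2)⟩ = 0 → ∀ χ : G → ℂ, IsIrrCharacter G χ →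
      classInner (fun h : P => χ h) ρ ≠ 0 → χ x = 0 := fun _ hρ hker h0 _ hχ hχρ =>
  Fr.e1F hexp hcU h19 hcP hcop hG hρ (fun u hu => hker u hu) h0 hx hχ hχρ

/-- an element whose order does not divide `|P|` has no conjugates in `P` -/
theorem no_conj {P : Subgroup G} {x : G} {p : ℕ} (hx : orderOf x = p) (hp : ¬ p ∣ Nat.card P) (g : G) :
    g⁻¹ * x * g ∉ P := by
  intro hg
  apply hp
  have h1 : orderOf (⟨g⁻¹ * x * g, hg⟩ : P) = p := by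
    rw [Subgroup.orderOf_mk]
    have h2 := orderOf_injective (MulAut.conj g⁻¹).toMonoidHom (MulAut.conj g⁻¹).injective x
    have h3 : (MulAut.conj g⁻¹).toMonoidHom x = g⁻¹ * x * g := by simp
    rw [h3] at h2
    rw [h2, hx]
  rw [← h1]
  exact orderOf_dvd_natCard _

end Cfsg.Agent.H800.TF8
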