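import Cfsg.Agent.H800.TF8.Lin
import Cfsg.Agent.Characters.DefectZero

/-!
# The constituents of the characters induced from cuspidal characters (helper800, S2452, `²F₄(8)`)

`Fr G` : the facts on the parabolic subgroup. `e1` : a character of `G` over a cuspidal character of `P` vanishes at `x`.
-/

set_option autoImplicit false
set_option linter.unusedSectionVars false

open scoped ComplexConjugate
open Cfsg

namespace Cfsg.Agent.H800.TF8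

open Cfsg.Agent.OddOrderCharacters.Clifford Cfsg.Agent.Characters Cfsg.Agent.H45.GG
open Cfsg.Agent.OddOrderCharacters

variable {G : Type*} [Group G]

/-- the facts on `P = UP LS Z`, `U = V1 UP` and the element `n` -/
structure Fr (P U UP V1 LS Z : Subgroup G) (n : G) : Prop where
  mem : ∀ g, g ∈ P ↔ ∃ u ∈ UP, ∃ l ∈ LS, ∃ z ∈ Z, g = u * l * z
  norm : ∀ p ∈ P, ∀ u ∈ UP, p * u * p⁻¹ ∈ UP
  UPU : UP ≤ U
  V1L : V1 ≤ LS
  V1U : V1 ≤ U
  split : ∀ u ∈ U, ∃ v ∈ V1, ∃ u' ∈ UP, u = v * u'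
  comm : ∀ z ∈ Z, ∀ l ∈ LS, z * l = l * z
  n_sq : n * n = 1
  n_comm : ∀ l ∈ LS, n * l = l * n
  n_inv : ∀ z ∈ Z, n * z * n⁻¹ = z⁻¹
  n_U : ∀ u ∈ UP, n * u * n⁻¹ ∈ P → u = 1
  n_not : n ∉ P
  cosets : ∀ g, g ∈ P ∨ (∃ p ∈ P, ∃ p' ∈ P, g = p * n * p') ∨
    (∃ p ∈ P, ∃ p' ∈ P, ∃ r, g = p * r * p' ∧ ∀ v ∈ V1, r * v * r⁻¹ ∈ UP)

variable {P U UP V1 LS Z : Subgroup G} {n : G}

namespace Fr

theorem UP_le (F : Fr P U UP V1 LS Z n) : UP ≤ P := fun u hu =>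
  (F.mem u).2 ⟨u, hu, 1, one_mem _, 1, one_mem _, by simp⟩

theorem LS_le (F : Fr P U UP V1 LS Z n) : LS ≤ P := fun l hl =>
  (F.mem l).2 ⟨1, one_mem _, l, hl, 1, one_mem _, by simp⟩

theorem Z_le (F : Fr P U UP V1 LS Z n) : Z ≤ P := fun z hz =>
  (F.mem z).2 ⟨1, one_mem _, 1, one_mem _, z, hz, by simp⟩

theorem U_le (F : Fr P U UP V1 LS Z n) : U ≤ P := by
  intro u hu
  obtain ⟨v, hv, u', hu', rfl⟩ := F.split u hu
  exact mul_mem (F.LS_le (F.V1L hv)) (F.UP_le hu')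

theorem n_inv' (F : Fr P U UP V1 LS Z n) : n⁻¹ = n := inv_eq_of_mul_eq_one_left F.n_sq

theorem comm_Z (F : Fr P U UP V1 LS Z n) {z z' : G} (hz : z ∈ Z) (hz' : z' ∈ Z) : z * z' = z' * z := by
  have h1 := F.n_inv _ (mul_mem hz hz')
  have h2 := F.n_inv _ hz
  have h3 := F.n_inv _ hz'
  have h4 : n * (z * z') * n⁻¹ = (n * z * n⁻¹) * (n * z' * n⁻¹) := by group
  rw [h4, h2, h3, mul_inv_rev] at h1
  have h5 : (z⁻¹ * z'⁻¹)⁻¹ = (z'⁻¹ * z⁻¹)⁻¹ := by rw [h1]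
  simpa using h5.symm

theorem inf_trivial (F : Fr P U UP V1 LS Z n) {v : G} (h1 : v ∈ LS) (h2 : v ∈ UP) : v = 1 := by
  apply F.n_U v h2
  rw [F.n_comm v h1, mul_inv_cancel_right]
  exact F.LS_le h1

theorem n_L (F : Fr P U UP V1 LS Z n) {l z : G} (hl : l ∈ LS) (hz : z ∈ Z) : n * (l * z) * n⁻¹ = l * z⁻¹ := by
  have h4 : n * (l * z) * n⁻¹ = (n * l) * z * n⁻¹ := by group
  rw [h4, F.n_comm l hl, ← F.n_inv z hz]
  group

end Fr

section main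

variable [Fintype G] [Fintype P]

/-- an element of `Z` acts as a scalar -/
theorem Fr.scalar (F : Fr P U UP V1 LS Z n) {ρ : P → ℂ} (hρ : IsIrrCharacter P ρ)
    (hker : ∀ (u : G) (hu : u ∈ UP), ρ ⟨u, F.UP_le hu⟩ = ρ 1) {z : G} (hz : z ∈ Z) :
    ∃ c : ℂ, ∀ p : P, ρ (⟨z, F.Z_le hz⟩ * p) = c * ρ p := by
  refine central_mod_ker hρ fun p => ?_
  obtain ⟨u, hu, l, hl, z', hz', e⟩ := (F.mem p).1 p.2
  have h1 : z * (p : G) * z⁻¹ * (p : G)⁻¹ = (z * u * z⁻¹) * u⁻¹ := by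
    rw [e]
    have h2 : z * (u * l * z') * z⁻¹ * (u * l * z')⁻¹ = (z * u * z⁻¹) * ((z * l) * (z' * z⁻¹) * z'⁻¹ * l⁻¹) * u⁻¹ := by
      group
    rw [h2, F.comm z hz l hl, F.comm_Z hz' (inv_mem hz)]
    group
  have h2 : (z * u * z⁻¹) * u⁻¹ ∈ UP := mul_mem (F.norm z (F.Z_le hz) u hu) (inv_mem hu)
  have h3 := hker _ h2
  rw [← h3]
  congr 1
  exact Subtype.ext h1

/-- the sum over `V1` -/
theorem Fr.sum_V1 (F : Fr P U UP V1 LS Z n) [Fintype U] [Fintype V1] {ρ : P → ℂ} (hρ : IsIrrCharacter P ρ)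
    (hker : ∀ (u : G) (hu : u ∈ UP), ρ ⟨u, F.UP_le hu⟩ = ρ 1) (h0 : ∑ u : U, ρ ⟨u, F.U_le u.2⟩ = 0) :
    ∑ v : V1, ρ ⟨v, F.LS_le (F.V1L v.2)⟩ = 0 := by
  classical
  have : Fintype UP := Fintype.ofFinite _
  have hmul : ∀ p : V1 × UP, (p.1 : G) * p.2 ∈ U := fun p => mul_mem (F.V1U p.1.2) (F.UPU p.2.2)
  have hbij : Function.Bijective (fun p : V1 × UP => (⟨(p.1 : G) * p.2, hmul p⟩ : U)) := by
    constructor
    · rintro ⟨v, u⟩ ⟨v', u'⟩ h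
      have h1 : (v : G) * u = v' * u' := congrArg Subtype.val h
      have h2 : (v' : G)⁻¹ * v = u' * (u : G)⁻¹ := by
        rw [eq_mul_inv_iff_mul_eq, mul_assoc, h1]
        group
      have h3 : (v' : G)⁻¹ * v = 1 := by
        apply F.inf_trivial
        · exact F.V1L (mul_mem (inv_mem v'.2) v.2)
        · rw [h2]
          exact mul_mem u'.2 (inv_mem u.2)
      have h4 : v = v' := Subtype.ext (inv_mul_eq_one.1 h3).symm
      rw [h4] at h1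
      have h5 : u = u' := Subtype.ext (mul_left_cancel h1)
      rw [h4, h5]
    · rintro ⟨u, hu⟩
      obtain ⟨v, hv, u', hu', e⟩ := F.split u hu
      exact ⟨(⟨v, hv⟩, ⟨u', hu'⟩), Subtype.ext e.symm⟩
  have h1 := hbij.sum_comp (fun u : U => ρ ⟨u, F.U_le u.2⟩)
  rw [h0] at h1
  let g : V1 → ℂ := fun v => ρ ⟨v, F.LS_le (F.V1L v.2)⟩
  have h2 : ∀ p : V1 × UP, ρ ⟨(p.1 : G) * p.2, F.U_le (hmul p)⟩ = g p.1 := by
    intro p
    have hc := Core.isIrr_isClassFunction hρ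
    set a : P := ⟨p.1, F.LS_le (F.V1L p.1.2)⟩ with ha
    set b : P := ⟨p.2, F.UP_le p.2.2⟩ with hb
    have e1 : (⟨(p.1 : G) * p.2, F.U_le (hmul p)⟩ : P) = a * b := rfl
    have e2 : ρ (a * b) = ρ (b * a) := by
      have := hc (b * a) b⁻¹
      rw [inv_inv] at this
      rw [← this]
      congr 1
      group
    rw [e1, e2]
    exact apply_mul_of_ker (Core.isIrr_isCharacter hρ) (hker _ p.2.2) a
  have h3 : ∑ p : V1 × UP, ρ ⟨(p.1 : G) * p.2, F.U_le (hmul p)⟩ = 0 := h1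
  rw [Finset.sum_congr rfl fun p _ => h2 p, Fintype.sum_prod_type (fun p : V1 × UP => g p.1)] at h3
  have h4 : ∀ v : V1, ∑ u : UP, g ((v, u) : V1 × UP).1 = (Fintype.card UP : ℂ) * g v := by
    intro v
    show ∑ u : UP, g v = _
    rw [Finset.sum_const, Finset.card_univ, nsmul_eq_mul]
  rw [Finset.sum_congr rfl fun v _ => h4 v, ← Finset.mul_sum] at h3
  rcases mul_eq_zero.1 h3 with h | h
  · exact absurd h (by exact_mod_cast Fintype.card_ne_zero)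
  · exact h

/-- **The cuspidal case**: irreducible, or a sum of two irreducible characters with `ρ(n l n l⁻¹) = ρ(1)` on `LS Z`. -/
theorem Fr.cusp (F : Fr P U UP V1 LS Z n) [Fintype U] {ρ : P → ℂ} (hρ : IsIrrCharacter P ρ)
    (hker : ∀ (u : G) (hu : u ∈ UP), ρ ⟨u, F.UP_le hu⟩ = ρ 1) (h0 : ∑ u : U, ρ ⟨u, F.U_le u.2⟩ = 0) :
    IsIrrCharacter G (indFun P ρ) ∨
      ((∃ a b : G → ℂ, IsIrrCharacter G a ∧ IsIrrCharacter G b ∧ a ≠ b ∧ indFun P ρ = a + b) ∧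
        ∀ l ∈ LS ⊔ Z, ∃ h : n * l * n * l⁻¹ ∈ P, ρ ⟨n * l * n * l⁻¹, h⟩ = ρ 1) := by
  classical
  have : Fintype V1 := Fintype.ofFinite _
  have hsup : ∀ l ∈ LS ⊔ Z, ∃ s ∈ LS, ∃ z ∈ Z, l = s * z := by
    intro l hl
    have hle : LS ⊔ Z ≤ (⊤ : Subgroup G) := le_top
    let S : Subgroup G :=
      { carrier := {l | ∃ s ∈ LS, ∃ z ∈ Z, l = s * z}
        one_mem' := ⟨1, one_mem _, 1, one_mem _, by simp⟩
        mul_mem' := by
          rintro a b ⟨s, hs, z, hz, rfl⟩ ⟨s', hs', z', hz', rfl⟩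
          refine ⟨s * s', mul_mem hs hs', z * z', mul_mem hz hz', ?_⟩
          have := F.comm z hz s' hs'
          calc s * z * (s' * z') = s * (z * s') * z' := by group
            _ = s * s' * (z * z') := by rw [this]; group
        inv_mem' := by
          rintro a ⟨s, hs, z, hz, rfl⟩
          refine ⟨s⁻¹, inv_mem hs, z⁻¹, inv_mem hz, ?_⟩
          rw [mul_inv_rev, F.comm _ (inv_mem hz) _ (inv_mem hs)] }
    have h1 : LS ⊔ Z ≤ S := sup_le (fun s hs => ⟨s, hs, 1, one_mem _, by simp⟩) (fun z hz => ⟨1, one_mem _, z, hz, by simp⟩)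
    exact h1 hl
  have hn1 := F.n_inv'
  have key := Cfsg.Agent.H800.TF8.cusp P hρ F.n_not V1 (fun v hv => F.LS_le (F.V1L hv)) (F.sum_V1 hρ hker h0)
    (by
      intro x hx hx'
      rcases F.cosets x with h | ⟨p, hp, p', hp', e⟩ | ⟨p, hp, p', hp', r, e, hr⟩
      · exact (hx h).elim
      · exact (hx' ⟨p, hp, p', hp', e⟩).elim
      · exact ⟨r, ⟨p, hp, p', hp', e⟩, fun v hv => ⟨F.UP_le (hr v hv), hker _ (hr v hv)⟩⟩)
    (by
      intro p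
      obtain ⟨u, hu, l, hl, z, hz, e⟩ := (F.mem p).1 p.2
      refine ⟨⟨u, F.UP_le hu⟩, ⟨l * z, mul_mem (F.LS_le hl) (F.Z_le hz)⟩, hker u hu, ?_,
        Subtype.ext (by rw [e]; exact mul_assoc _ _ _)⟩
      show n⁻¹ * (l * z) * n ∈ P
      have h1 := F.n_L hl hz
      rw [hn1] at h1 ⊢
      rw [h1]
      exact mul_mem (F.LS_le hl) (inv_mem (F.Z_le hz)))
    (by
      intro p
      obtain ⟨u, hu, l, hl, z, hz, e⟩ := (F.mem p).1 p.2
      refine ⟨⟨u, F.UP_le hu⟩, ⟨l * z, mul_mem (F.LS_le hl) (F.Z_le hz)⟩, hker u hu, ?_,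
        Subtype.ext (by rw [e]; exact mul_assoc _ _ _)⟩
      show n * (l * z) * n⁻¹ ∈ P
      rw [F.n_L hl hz]
      exact mul_mem (F.LS_le hl) (inv_mem (F.Z_le hz)))
  rcases key with h | ⟨h, h'⟩
  · exact Or.inl h
  · right
    refine ⟨h, fun l hl => ?_⟩
    obtain ⟨s, hs, z, hz, rfl⟩ := hsup l hl
    have e1 : n * (s * z) * n * (s * z)⁻¹ = z⁻¹ * z⁻¹ := by
      have h1 := F.n_L hs hz
      rw [hn1] at h1
      rw [h1, mul_inv_rev]
      calc s * z⁻¹ * (z⁻¹ * s⁻¹) = s * (z⁻¹ * z⁻¹ * s⁻¹) := by group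
        _ = s * (s⁻¹ * (z⁻¹ * z⁻¹)) := by rw [F.comm _ (mul_mem (inv_mem hz) (inv_mem hz)) _ (inv_mem hs)]
        _ = z⁻¹ * z⁻¹ := by group
    have hzi : z⁻¹ ∈ Z := inv_mem hz
    refine ⟨by rw [e1]; exact mul_mem (F.Z_le hzi) (F.Z_le hzi), ?_⟩
    obtain ⟨c, hc⟩ := F.scalar hρ hker hzi
    -- `ρ(z) = ρ(z⁻¹)`
    have h2 : ρ ⟨z, F.Z_le hz⟩ = ρ ⟨z⁻¹, F.Z_le hzi⟩ := by
      have hl' : n⁻¹ * ((⟨z, F.Z_le hz⟩ : P) : G) * n ∈ P := by
        have h1 := F.n_inv z hz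
        show n⁻¹ * z * n ∈ P
        rw [hn1] at h1 ⊢
        rw [h1]
        exact F.Z_le hzi
      have h3 := h' ⟨z, F.Z_le hz⟩ hl'
      rw [← h3]
      congr 1
      apply Subtype.ext
      show n⁻¹ * z * n = z⁻¹
      have h1 := F.n_inv z hz
      rw [hn1] at h1 ⊢
      exact h1
    have h4 : ρ ⟨z⁻¹, F.Z_le hzi⟩ = c * ρ 1 := by
      rw [← hc 1, mul_one]
    have h5 : ρ 1 = c * ρ ⟨z, F.Z_le hz⟩ := by
      rw [← hc]
      congr 1
      exact Subtype.ext (inv_mul_cancel z).symm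
    have e2 : (⟨n * (s * z) * n * (s * z)⁻¹, by rw [e1]; exact mul_mem (F.Z_le hzi) (F.Z_le hzi)⟩ : P) =
        ⟨z⁻¹, F.Z_le hzi⟩ * ⟨z⁻¹, F.Z_le hzi⟩ := Subtype.ext e1
    rw [e2, hc, ← h2, ← h5]

/-- characters of degree divisible by a prime which divides the order exactly once -/
theorem zero_of_dvd {χ : G → ℂ} (hχ : IsIrrCharacter G χ) {p : ℕ} (hp : p.Prime) (h1 : p ∣ Nat.card G)
    (h2 : ¬ p ^ 2 ∣ Nat.card G) {d : ℕ} (hd : χ 1 = d) (hpd : p ∣ d) {x : G} (hx : p ∣ orderOf x) : χ x = 0 := by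
  obtain ⟨n, σ, hσ, rfl⟩ := hχ
  have e : (Module.finrank ℂ (Fin n → ℂ) : ℂ) = d := by rw [← hd, Representation.char_one]
  have e' : Module.finrank ℂ (Fin n → ℂ) = d := by exact_mod_cast e
  have h3 := DefectZero.character_inv_eq_zero σ hσ p 1 hp (by simpa using h1) h2 (by rw [e']; simpa using hpd) x⁻¹
    (by rw [orderOf_inv]; exact hx)
  rwa [inv_inv] at h3

/-- **(E1)**, with the square argument as hypothesis `hsq` -/
theorem Fr.e1 (F : Fr P U UP V1 LS Z n) [Fintype U] {ρ : P → ℂ} (hρ : IsIrrCharacter P ρ)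
    (hker : ∀ (u : G) (hu : u ∈ UP), ρ ⟨u, F.UP_le hu⟩ = ρ 1) (h0 : ∑ u : U, ρ ⟨u, F.U_le u.2⟩ = 0) {x : G}
    (hx : ∀ g : G, g⁻¹ * x * g ∉ P)
    (hsq : ∀ a b : G → ℂ, IsIrrCharacter G a → IsIrrCharacter G b → a ≠ b → indFun P ρ = a + b →
      (∀ l ∈ LS ⊔ Z, ∃ h : n * l * n * l⁻¹ ∈ P, ρ ⟨n * l * n * l⁻¹, h⟩ = ρ 1) → a x = 0 ∧ b x = 0)
    {χ : G → ℂ} (hχ : IsIrrCharacter G χ) (hχρ : classInner (fun h : P => χ h) ρ ≠ 0) : χ x = 0 := by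
  rcases F.cusp hρ hker h0 with h | ⟨⟨a, b, ha, hb, hab, e⟩, h⟩
  · exact zero_of_irr hρ h hχ hχρ hx
  · obtain ⟨h1, h2⟩ := hsq a b ha hb hab e h
    have h3 : classInner χ (indFun P ρ) ≠ 0 := by
      rw [IndRes.classInner_indFun_right P ρ (Core.isIrr_isClassFunction hχ)]
      exact hχρ
    have h4 : χ = a ∨ χ = b := by
      by_contra hc
      push Not at hc
      apply h3
      rw [e, Core.classInner_add_right, Core.classInner_irr_ne hχ ha hc.1, Core.classInner_irr_ne hχ hb hc.2, add_zero]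
    rcases h4 with rfl | rfl
    · exact h1
    · exact h2

end main

end Cfsg.Agent.H800.TF8
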