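import Cfsg.Agent.H800.TF8.E1
import Cfsg.Agent.H961.TF8.Zero

/-!
# (E1) with helper961's square argument (helper800, S2452, `²F₄(8)`)
-/

set_option autoImplicit false
set_option linter.unusedSectionVars false

open scoped ComplexConjugate
open Cfsg

namespace Cfsg.Agent.H800.TF8

open Cfsg.Agent.OddOrderCharacters.Clifford Cfsg.Agent.Characters Cfsg.Agent.H45.GG
open Cfsg.Agent.OddOrderCharacters

variable {G : Type*} [Group G] {P U UP V1 LS Z : Subgroup G} {n : G}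

theorem Fr.mem_sup (F : Fr P U UP V1 LS Z n) {l : G} (hl : l ∈ LS ⊔ Z) : ∃ s ∈ LS, ∃ z ∈ Z, l = s * z := by
  let S : Subgroup G :=
    { carrier := {l | ∃ s ∈ LS, ∃ z ∈ Z, l = s * z}
      one_mem' := ⟨1, one_mem _, 1, one_mem _, by simp⟩
      mul_mem' := by
        rintro a b ⟨s, hs, z, hz, rfl⟩ ⟨s', hs', z', hz', rfl⟩
        refine ⟨s * s', mul_mem hs hs', z * z', mul_mem hz hz', ?_⟩
        have := F.comm z hz s' hs'
        calc s * z * (s' * z') = s * (z * s') * z' := by group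
          _ = s * s' * (z * z') := by rw [this]; group
      inv_mem' := by
        rintro a ⟨s, hs, z, hz, rfl⟩
        refine ⟨s⁻¹, inv_mem hs, z⁻¹, inv_mem hz, ?_⟩
        rw [mul_inv_rev, F.comm _ (inv_mem hz) _ (inv_mem hs)] }
  have h1 : LS ⊔ Z ≤ S := sup_le (fun s hs => ⟨s, hs, 1, one_mem _, by simp⟩) (fun z hz => ⟨1, one_mem _, z, hz, by simp⟩)
  exact h1 hl

theorem Fr.frame (F : Fr P U UP V1 LS Z n) : H961.TF8.Frame P UP (LS ⊔ Z) n where
  hU := F.UP_le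
  hL := sup_le F.LS_le F.Z_le
  fac := by
    intro p hp
    obtain ⟨u, hu, l, hl, z, hz, e⟩ := (F.mem p).1 hp
    exact ⟨u, hu, l * z, mul_mem ((le_sup_left : LS ≤ LS ⊔ Z) hl) ((le_sup_right : Z ≤ LS ⊔ Z) hz),
      by rw [e, mul_assoc]⟩
  nrm := fun l hl u hu => F.norm l (sup_le F.LS_le F.Z_le hl) u hu
  sq := F.n_sq
  nmem := F.n_not
  opp := fun u hu h => F.n_U u hu (by rw [F.n_inv']; exact h)
  wL := by
    intro l hl
    obtain ⟨s, hs, z, hz, rfl⟩ := F.mem_sup hl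
    have h1 := F.n_L hs hz
    rw [F.n_inv'] at h1
    rw [h1]
    exact mul_mem ((le_sup_left : LS ≤ LS ⊔ Z) hs) ((le_sup_right : Z ≤ LS ⊔ Z) (inv_mem hz))

/-- **(E1)**: a character of `G` over a cuspidal character of `P` vanishes at the elements of order 19. -/
theorem Fr.e1F [Fintype G] [Fintype P] [Fintype U] (F : Fr P U UP V1 LS Z n) (hexp : ∀ p ∈ P, p ^ 1820 ∈ UP)
    (hcU : Nat.card UP = 2 ^ 30) (h19 : 19 ∣ P.index) (hcP : ¬ 19 ∣ Nat.card P) (hcop : Nat.Coprime 5461 (Nat.card G))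
    (hG : ¬ 19 ^ 2 ∣ Nat.card G) {ρ : P → ℂ} (hρ : IsIrrCharacter P ρ)
    (hker : ∀ u : P, (u : G) ∈ UP → ρ u = ρ 1) (h0 : ∑ u : U, ρ ⟨u, F.U_le u.2⟩ = 0) {x : G}
    (hx : orderOf x = 19) {χ : G → ℂ} (hχ : IsIrrCharacter G χ) (hχρ : classInner (fun h : P => χ h) ρ ≠ 0) :
    χ x = 0 := by
  have hxP : ∀ g : G, g⁻¹ * x * g ∉ P := by
    intro g hg
    apply hcP
    have h1 : orderOf (⟨g⁻¹ * x * g, hg⟩ : P) = 19 := by
      rw [Subgroup.orderOf_mk]
      have h2 := orderOf_injective (MulAut.conj g⁻¹).toMonoidHom (MulAut.conj g⁻¹).injective x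
      have h3 : (MulAut.conj g⁻¹).toMonoidHom x = g⁻¹ * x * g := by simp
      rw [h3] at h2
      rw [h2, hx]
    rw [← h1]
    exact orderOf_dvd_natCard _
  rcases F.cusp hρ (fun u hu => hker ⟨u, F.UP_le hu⟩ hu) h0 with h | ⟨⟨a, b, ha, hb, hab, e⟩, h⟩
  · exact zero_of_irr hρ h hχ hχρ hxP
  · have hK : H961.TF8.Ker F.frame ρ := by
      refine ⟨hker, ?_⟩
      rintro k ⟨l, hl, e'⟩
      obtain ⟨h1, h2⟩ := h l hl
      rw [← h2]
      congr 1
      exact Subtype.ext e'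
    exact H961.TF8.zero_of_over F.frame hexp hcU h19 hcop hG hρ hK ha hb e hx hχ hχρ

end Cfsg.Agent.H800.TF8
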