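import Cfsg.Agent.H45.GG.Mackey
import Cfsg.Agent.OddOrderCharacters.IndRes
import Cfsg.Agent.CharactersDeep.InvRep
import Cfsg.Agent.Characters.Values

/-!
# Induction of cuspidal characters in relative rank one (helper800, S2452, `²F₄(8)`)

* `isIrr_of_cover` : the restriction of an irreducible character to a supplement of a subgroup of its kernel;
* `norm_two` : Mackey's formula for one subgroup and one character if only the double cosets of `1` and `w` count;
* `cusp` : the induced character is irreducible or a sum of two different irreducible characters, and in the second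
  case the character is invariant under `w`;
* `irr_of_norm_two` : a character of norm `2` which is a sum of two non-zero characters.
-/

set_option autoImplicit false
set_option linter.unusedSectionVars false

open scoped ComplexConjugate
open Cfsg

namespace Cfsg.Agent.H800.TF8

open Cfsg.Agent.OddOrderCharacters.Clifford Cfsg.Agent.Characters Cfsg.Agent.H45.GG

section rep

variable {P : Type*} [Group P]

theorem rep_eq_one [Finite P] {n : ℕ} (σ : Representation ℂ P (Fin n → ℂ)) {u : P}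
    (h : σ.character u = σ.character 1) : σ u = 1 := by
  have h1 : σ.character u = (Module.finrank ℂ (Fin n → ℂ) : ℂ) := by rw [h, Representation.char_one]
  exact (Values.character_eq_finrank_iff σ u).1 h1

/-- The restriction of an irreducible character to a supplement of a subgroup of its kernel is irreducible. -/
theorem isIrr_of_cover [Finite P] {L : Type*} [Group L] (f : L →* P) {ψ : P → ℂ} (hψ : IsIrrCharacter P ψ)
    (hcov : ∀ p : P, ∃ (u : P) (l : L), ψ u = ψ 1 ∧ p = u * f l) : IsIrrCharacter L (ψ ∘ f) := by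
  obtain ⟨n, σ, hσ, rfl⟩ := hψ
  refine ⟨n, σ.comp f, ?_, rfl⟩
  rw [Cfsg.Agent.CharactersDeep.InvRep.isIrreducible_iff] at hσ ⊢
  refine ⟨hσ.1, fun p hp => hσ.2 p fun g v hv => ?_⟩
  obtain ⟨u, l, hu, rfl⟩ := hcov g
  rw [map_mul, rep_eq_one σ hu, one_mul]
  exact hp l v hv

/-- characters are constant on the cosets of their kernel -/
theorem apply_mul_of_ker [Finite P] {ψ : P → ℂ} (hψ : IsCharacter P ψ) {u : P} (hu : ψ u = ψ 1) (p : P) :
    ψ (u * p) = ψ p := by
  obtain ⟨n, σ, rfl⟩ := hψ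
  show LinearMap.trace ℂ _ (σ (u * p)) = LinearMap.trace ℂ _ (σ p)
  rw [map_mul, rep_eq_one σ hu, one_mul]

/-- an element which is central modulo the kernel acts by a scalar -/
theorem central_mod_ker [Finite P] {ψ : P → ℂ} (hψ : IsIrrCharacter P ψ) {z : P}
    (hz : ∀ p : P, ψ (z * p * z⁻¹ * p⁻¹) = ψ 1) : ∃ c : ℂ, (∀ p, ψ (z * p) = c * ψ p) := by
  obtain ⟨n, σ, hσ, rfl⟩ := hψ
  obtain ⟨c, hc⟩ := Cfsg.Agent.CharactersDeep.InvRep.exists_smul_of_comm σ hσ (σ z) (fun g => by
    have h1 := rep_eq_one σ (hz g)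
    have h2 : z * g = z * g * z⁻¹ * g⁻¹ * (g * z) := by group
    rw [← map_mul, h2, map_mul, h1, one_mul, map_mul])
  refine ⟨c, fun p => ?_⟩
  show LinearMap.trace ℂ _ (σ (z * p)) = c * LinearMap.trace ℂ _ (σ p)
  rw [map_mul, hc]
  simp

end rep

section mackey

variable {G : Type*} [Group G] [Fintype G]

theorem tw_one (P : Subgroup G) [Fintype P] {ψ : P → ℂ} (hψ : IsIrrCharacter P ψ) [Fintype (ds P P 1)] :
    (Fintype.card (ds P P 1) : ℂ)⁻¹ * tw P P ψ ψ 1 = 1 := by
  classical
  have h1 : Fintype.card (ds P P 1) = Nat.card P := by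
    rw [← Nat.card_eq_fintype_card]
    have : ds P P 1 = ⊤ := by
      rw [eq_top_iff]
      intro t _
      rw [mem_ds]
      simp
    rw [this, Nat.card_congr (Subgroup.topEquiv (G := P)).toEquiv]
  have h2 : tw P P ψ ψ 1 = (Nat.card P : ℂ) * classInner ψ ψ := by
    rw [classInner_apply, tw_def, mul_inv_cancel_left₀ card_ne_zero']
    refine Finset.sum_congr rfl fun t _ => ?_
    rw [show (1 : G)⁻¹ * t * 1 = t by group, ext_apply_coe]
  rw [h1, h2, Core.classInner_irr_self hψ, mul_one, inv_mul_cancel₀ card_ne_zero']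

/-- **Mackey's formula** if only the double cosets of `1` and `w` count. -/
theorem norm_two (P : Subgroup G) [Fintype P] {ψ : P → ℂ} (hψ : IsIrrCharacter P ψ) {w : G} (hw : w ∉ P)
    (h0 : ∀ x, x ∉ P → ¬ DK P P w x → tw P P ψ ψ x = 0) [Fintype (ds P P w)] :
    classInner (indFun P ψ) (indFun P ψ) =
      1 + classInner (ψ ∘ (ds P P w).subtype) (ψ ∘ dh P P w) := by
  classical
  have hc := Core.isIrr_isClassFunction hψ
  let r : Bool → G := fun b => cond b w 1
  have : ∀ i : Bool, Fintype (ds P P (r i)) := fun i => Fintype.ofFinite _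
  rw [classInner_ind_eq_sum P P hc hc r ?_ ?_]
  · have e0 : ∀ i : Bool, (Fintype.card (ds P P (r i)) : ℂ)⁻¹ * tw P P ψ ψ (r i) =
        (Nat.card (ds P P (r i)) : ℂ)⁻¹ * tw P P ψ ψ (r i) := fun i => by rw [Nat.card_eq_fintype_card]
    rw [Finset.sum_congr rfl fun i _ => e0 i, Fintype.sum_bool]
    have : Fintype (ds P P 1) := Fintype.ofFinite _
    have e1 := tw_one P hψ
    have e2 := tw_eq_classInner P P ψ ψ w
    rw [← Nat.card_eq_fintype_card] at e1 e2
    rw [add_comm]
    show (Nat.card (ds P P 1) : ℂ)⁻¹ * tw P P ψ ψ 1 + (Nat.card (ds P P w) : ℂ)⁻¹ * tw P P ψ ψ w = _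
    rw [e1, e2]
  · intro i j hij
    cases i <;> cases j
    · rfl
    · exfalso
      obtain ⟨a, ha, b, hb, e⟩ := hij
      apply hw
      rw [show w = a * 1 * b from e]
      exact mul_mem (mul_mem ha (one_mem _)) hb
    · exfalso
      obtain ⟨a, ha, b, hb, e⟩ := hij
      apply hw
      have e' : 1 = a * w * b := e
      have : w = a⁻¹ * b⁻¹ := by
        calc w = a⁻¹ * (a * w * b) * b⁻¹ := by group
          _ = a⁻¹ * b⁻¹ := by rw [← e', mul_one]
      rw [this]
      exact mul_mem (inv_mem ha) (inv_mem hb)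
    · rfl
  · intro x hx
    refine h0 x ?_ ?_
    · intro hxP
      exact hx false ⟨x, hxP, 1, one_mem _, by show x = x * 1 * 1; simp⟩
    · intro h
      exact hx true h

/-- the Mackey term of `w` for a character which is irreducible on `P ∩ w P w⁻¹` -/
theorem term_zero_or (P : Subgroup G) [Fintype P] {ψ : P → ℂ} {w : G} [Fintype (ds P P w)]
    (h1 : IsIrrCharacter (ds P P w) (ψ ∘ (ds P P w).subtype)) (h2 : IsIrrCharacter (ds P P w) (ψ ∘ dh P P w)) :
    classInner (ψ ∘ (ds P P w).subtype) (ψ ∘ dh P P w) = 0 ∨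
      (classInner (ψ ∘ (ds P P w).subtype) (ψ ∘ dh P P w) = 1 ∧
        ∀ (l : P) (hl : w⁻¹ * (l : G) * w ∈ P), ψ ⟨w⁻¹ * l * w, hl⟩ = ψ l) := by
  by_cases h : ψ ∘ (ds P P w).subtype = ψ ∘ dh P P w
  · right
    refine ⟨?_, fun l hl => ?_⟩
    · rw [← h]
      exact Core.classInner_irr_self h1
    · have := congrFun h ⟨l, (mem_ds P P w l).2 hl⟩
      exact this.symm
  · left
    exact Core.classInner_irr_ne h1 h2 h

/-- a character of norm two is a sum of two irreducible characters -/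
theorem exists_two {χ : G → ℂ} (hχ : IsCharacter G χ) (h : classInner χ χ = 2) :
    ∃ a b : G → ℂ, IsIrrCharacter G a ∧ IsIrrCharacter G b ∧ a ≠ b ∧ χ = a + b := by
  classical
  have h0 : classInner χ χ ≠ 0 := by rw [h]; norm_num
  obtain ⟨a, ha, h1, -⟩ := Cfsg.Agent.H53.HC.exists_common hχ hχ h0
  have hb := isCharacter_sub_irr hχ ha h1
  obtain ⟨m, hm⟩ := Core.classInner_isNat (Core.isIrr_isCharacter ha) hb
  obtain ⟨m', hm'⟩ := Core.classInner_isNat hb (Core.isIrr_isCharacter ha)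
  obtain ⟨k, hk⟩ := Core.classInner_isNat hb hb
  have e : χ = a + (χ - a) := by ext x; simp
  have h2 : classInner (a + (χ - a)) (a + (χ - a)) = 2 := by rw [← e]; exact h
  rw [Core.classInner_add_left, Core.classInner_add_right, Core.classInner_add_right,
    Core.classInner_irr_self ha, hm, hm', hk] at h2
  have h3 : 1 + m + (m' + k) = 2 := by exact_mod_cast h2
  have hmm : m = m' := by
    have := Core.classInner_conj_symm a (χ - a)
    rw [hm, hm', Complex.conj_natCast] at this
    exact_mod_cast this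
  have hk0 : k ≠ 0 := by
    intro h4
    rw [h4, Nat.cast_zero] at hk
    have h5 := Core.classInner_self_eq_zero hk
    rw [h5, Core.classInner_zero_left] at hm'
    have : m' = 0 := by exact_mod_cast hm'.symm
    omega
  have hk1 : k = 1 := by omega
  have hm0 : m = 0 := by omega
  rw [hk1, Nat.cast_one] at hk
  have hb' := Core.isIrr_of_classInner_self hb hk
  refine ⟨a, χ - a, ha, hb', ?_, e⟩
  intro h4
  rw [← h4, Core.classInner_irr_self ha, hm0] at hm
  norm_num at hm

/-- **The cuspidal case.** -/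
theorem cusp (P : Subgroup G) [Fintype P] {ψ : P → ℂ} (hψ : IsIrrCharacter P ψ) {w : G} (hw : w ∉ P)
    (V : Subgroup G) [Fintype V] (hV : V ≤ P) (hV0 : ∑ v : V, ψ ⟨v, hV v.2⟩ = 0)
    (hG : ∀ x : G, x ∉ P → ¬ DK P P w x → ∃ r, DK P P r x ∧ ∀ v ∈ V, ∃ h : r * v * r⁻¹ ∈ P, ψ ⟨r * v * r⁻¹, h⟩ = ψ 1)
    (hP : ∀ p : P, ∃ u l : P, ψ u = ψ 1 ∧ w⁻¹ * (l : G) * w ∈ P ∧ p = u * l)
    (hP' : ∀ p : P, ∃ u l : P, ψ u = ψ 1 ∧ w * (l : G) * w⁻¹ ∈ P ∧ p = u * l) :
    IsIrrCharacter G (indFun P ψ) ∨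
      ((∃ a b : G → ℂ, IsIrrCharacter G a ∧ IsIrrCharacter G b ∧ a ≠ b ∧ indFun P ψ = a + b) ∧
        ∀ (l : P) (hl : w⁻¹ * (l : G) * w ∈ P), ψ ⟨w⁻¹ * l * w, hl⟩ = ψ l) := by
  classical
  have : Fintype (ds P P w) := Fintype.ofFinite _
  have hch := Core.isIrr_isCharacter hψ
  have hi : IsCharacter G (indFun P ψ) := Cfsg.Agent.OddOrderCharacters.IndRes.isCharacter_indFun P hch
  have h0 : ∀ x, x ∉ P → ¬ DK P P w x → tw P P ψ ψ x = 0 := by
    intro x hx hx'
    obtain ⟨r, ⟨a, ha, b, hb, rfl⟩, hr⟩ := hG x hx hx'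
    have hc := Core.isIrr_isClassFunction hψ
    rw [tw_mul P P hc hc ha hb]
    let f : V →* G := (MulAut.conj r).toMonoidHom.comp V.subtype
    have hf : ∀ l : V, f l ∈ P := fun l => (hr l l.2).1
    have e1 : ∀ l : V, r⁻¹ * f l * r = l := by
      intro l
      show r⁻¹ * (r * l * r⁻¹) * r = l
      group
    refine tw_eq_zero_of_hom P P hch hch r f hf (fun l => by rw [e1]; exact hV l.2) ?_
    have e2 : ∀ l : V, ψ ⟨f l, hf l⟩ = ψ 1 := fun l => (hr l l.2).2
    have e3 : ∀ l : V, ψ ⟨r⁻¹ * f l * r, by rw [e1]; exact hV l.2⟩ = ψ ⟨l, hV l.2⟩ := fun l => by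
      congr 1
      exact Subtype.ext (e1 l)
    simp only [e2, e3]
    rw [← Finset.mul_sum, ← map_sum, hV0, map_zero, mul_zero]
  have hn := norm_two P hψ hw h0
  have i1 : IsIrrCharacter (ds P P w) (ψ ∘ (ds P P w).subtype) := by
    refine isIrr_of_cover _ hψ fun p => ?_
    obtain ⟨u, l, hu, hl, e⟩ := hP p
    exact ⟨u, ⟨l, (mem_ds P P w l).2 hl⟩, hu, e⟩
  have i2 : IsIrrCharacter (ds P P w) (ψ ∘ dh P P w) := by
    refine isIrr_of_cover _ hψ fun p => ?_
    obtain ⟨u, l, hu, hl, e⟩ := hP' p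
    have h1 : w⁻¹ * (w * (l : G) * w⁻¹) * w = l := by group
    refine ⟨u, ⟨⟨w * l * w⁻¹, hl⟩, (mem_ds P P w _).2 (by rw [h1]; exact l.2)⟩, hu, ?_⟩
    rw [e]
    congr 1
    exact Subtype.ext h1.symm
  rcases term_zero_or P i1 i2 with h | ⟨h, h'⟩
  · left
    rw [h, add_zero] at hn
    exact Core.isIrr_of_classInner_self hi hn
  · right
    rw [h] at hn
    exact ⟨exists_two hi (by rw [hn]; norm_num), h'⟩

/-- if `a + b` has norm two and `a`, `b` are non-zero characters, then `a` is irreducible -/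
theorem irr_of_norm_two {a b : G → ℂ} (ha : IsCharacter G a) (hb : IsCharacter G b) (ha0 : a ≠ 0) (hb0 : b ≠ 0)
    (h : classInner (a + b) (a + b) = 2) : IsIrrCharacter G a := by
  obtain ⟨m, hm⟩ := Core.classInner_isNat ha ha
  obtain ⟨k, hk⟩ := Core.classInner_isNat hb hb
  obtain ⟨j, hj⟩ := Core.classInner_isNat ha hb
  obtain ⟨i, hi⟩ := Core.classInner_isNat hb ha
  rw [Core.classInner_add_left, Core.classInner_add_right, Core.classInner_add_right, hm, hk, hj, hi] at h
  have h1 : m + j + (i + k) = 2 := by exact_mod_cast h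
  have hm0 : m ≠ 0 := by
    rintro rfl
    rw [Nat.cast_zero] at hm
    exact ha0 (Core.classInner_self_eq_zero hm)
  have hk0 : k ≠ 0 := by
    rintro rfl
    rw [Nat.cast_zero] at hk
    exact hb0 (Core.classInner_self_eq_zero hk)
  have hm1 : m = 1 := by omega
  rw [hm1, Nat.cast_one] at hm
  exact Core.isIrr_of_classInner_self ha hm

end mackey

end Cfsg.Agent.H800.TF8
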