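import Cfsg.Agent.H800.TF8.Glue
import Cfsg.Agent.H315.TF8.Key
import Cfsg.Agent.H84.TF8.Model
import Cfsg.Agent.H83.TF8.Inst
import Cfsg.Agent.H371.TF8.NumG
import Cfsg.Agent.H371.TF8.HyB

/-!
# The value `χ(y)` in `²F₄(8)` (helper800, S2452)
-/

set_option autoImplicit false
set_option linter.unusedSectionVars false

open scoped ComplexConjugate
open Cfsg

namespace Cfsg.Agent.H800.TF8

open Cfsg.Lie Cfsg.Agent.SplitTwo Cfsg.Agent.SplitTwo.ZS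
open Cfsg.Agent.KFacts.TwF4 Cfsg.Agent.KFacts.TwF4.Arc Cfsg.Agent.H84.GaussTwF4
open Cfsg.Agent.ChevalleyStructure.TwF4.TwistedFix Cfsg.Agent.KFacts.TwF4.Inst
open Cfsg.Agent.Octagon.KSys Cfsg.Agent.Schreier.TwFFour Cfsg.Agent.Schreier.BNSch
open Cfsg.Agent.H84.TF8 Cfsg.Agent.TitsThree.RankTwoZ Cfsg.Agent.H45.GG

variable {K : Type} [Field K] [Fintype K] [CharP K 2] {φ : K →+* K}

/-- **`χ(y) = 2 [χ, 1_P^G] - [χ, 1_B^G]`** if `χ(x) ≠ 0` -/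
theorem val (hK : Fintype.card K = 2 ^ (2 * 1 + 1)) (hφ : Rln φ (2 ^ 1)) {Q : BNPair ↥(twistedF4 K (2 ^ 1))}
    (hsp : FixBN.Split Q 2 (U0 K (2 ^ 1))) (hQS : Q.S = {m1 K (2 ^ 1), m2 hφ})
    (hV : Node Q (U0 K (2 ^ 1)) (m2 hφ) (V8 K (2 ^ 1))) [Fintype ↥(twistedF4 K (2 ^ 1))]
    [Fintype ↥(Pa (full hK hφ))] [Fintype ↥(Bo (full hK hφ))] {x y : ↥(twistedF4 K (2 ^ 1))} (hx : orderOf x = 19)
    (hyP : y ∈ Pa (full hK hφ)) (hy35 : orderOf y = 35)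
    (hreg : ∀ u ∈ J (full hK hφ).XZ 1 7, y * u = u * y → u = 1) {χ : ↥(twistedF4 K (2 ^ 1)) → ℂ}
    (hχ : IsIrrCharacter ↥(twistedF4 K (2 ^ 1)) χ) (hχx : χ x ≠ 0) :
    χ y = 2 * ((Nat.card ↥(Pa (full hK hφ)) : ℂ)⁻¹ * ∑ g : ↥(Pa (full hK hφ)), χ g) -
      (Nat.card ↥(Bo (full hK hφ)) : ℂ)⁻¹ * ∑ g : ↥(Bo (full hK hφ)), χ g := by
  classical
  have hB : Q.B = Bo (full hK hφ) := Bo_eq le_rfl hK hφ hsp
  have hP : Q.parabolic {m2 hφ} = Pa (full hK hφ) := Pa_par le_rfl hK hφ hsp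
  have hU : J (full hK hφ).XZ 1 8 = U0 K (2 ^ 1) := Cfsg.Agent.H315.CY.J_eq hK hφ
  have hVV : V8 K (2 ^ 1) = J (full hK hφ).XZ 1 7 := V8_eq hK hφ
  have : Fintype ↥(J (full hK hφ).XZ 1 8) := Fintype.ofFinite _
  have hF8 : Nat.card K = 8 := by rw [Nat.card_eq_fintype_card, hK]; norm_num
  have hn : (full hK hφ).n2 ∉ Bo (full hK hφ) := by
    rw [← hB]
    exact Cfsg.Agent.LieExceptional.BNPairCore.not_mem_B (P := Q) (s := m2 hφ) (by rw [hQS]; exact Or.inr rfl)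
  have hcP : ¬ 19 ∣ Nat.card ↥(Pa (full hK hφ)) := by
    rw [← hP]
    exact Cfsg.Agent.H371.TF8.nineteen_not_dvd hK hφ hsp hQS hV
  have h19 : 19 ∣ (Pa (full hK hφ)).index := by
    rw [← hP]
    exact Cfsg.Agent.H371.TF8.nineteen_dvd hK hφ hsp hQS hV
  have h5 : ¬ 5 ∣ Nat.card ↥(Bo (full hK hφ)) := by
    rw [← hB]
    exact Cfsg.Agent.H371.TF8.five_not_dvd hK hφ hsp
  have hyB : ∀ g : ↥(twistedF4 K (2 ^ 1)), g⁻¹ * y * g ∉ Bo (full hK hφ) := by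
    rw [← hB]
    exact Cfsg.Agent.H371.TF8.hyB hK hφ hsp hy35
  have hxP : ∀ g : ↥(twistedF4 K (2 ^ 1)), g⁻¹ * x * g ∉ Pa (full hK hφ) := fun g => no_conj hx hcP g
  have hUPU : J (full hK hφ).XZ 1 7 ≤ J (full hK hφ).XZ 1 8 := (fr_model hK hφ).UPU
  have hcU : Nat.card ↥(J (full hK hφ).XZ 1 7) = 2 ^ 30 := by
    rw [← hVV]
    exact Cfsg.Agent.H371.TF8.card_V8 hK hφ
  refine Cfsg.Agent.H315.TF8.key_abs (B := Bo (full hK hφ)) (P := Pa (full hK hφ)) (U := J (full hK hφ).XZ 1 8) (UP := J (full hK hφ).XZ 1 7) Bo_le_Pa U_le_Bo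
    hUPU (fun p hp u hu => UP_normal hp hu) ?_ ?_ (n := (full hK hφ).n2) n2_mem_Pa hn (fun g hg => BPB hg) hyP hreg hyB ?_ ?_ hχ hχx
  · intro b hb u hu
    rw [hU] at hu ⊢
    rw [← hB] at hb
    exact Cfsg.Agent.H371.TF8.hUn hsp b hb u hu
  · intro b hb c hc
    rw [← hB] at hb hc
    exact Cfsg.Agent.H371.TF8.hBU' hK hφ hsp b hb c hc
  · exact glue_e1 (fr_model hK hφ) Bo_le_Pa U_le_Bo hUPU (fun p hp => Cfsg.Agent.H83.TF8.pow_Pa hF8 hp) hcU h19 hcP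
      (Cfsg.Agent.H371.TF8.coprime_5461' hK) (Cfsg.Agent.H371.TF8.nineteen_sq_G hK) hx
  · exact glue_e2 (full hK hφ) hn hyP hyB hxP

end Cfsg.Agent.H800.TF8
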